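/-
Configurations of involutions that cannot occur among homologies preserving an oval, found in
`A₇`, `L₃(q)`, `U₃(q)` and `M₁₁`.
-/
import Cfsg.Agent.H50.U3J
import Cfsg.Agent.H46.Standard
import Cfsg.Agent.H43.Basic
import Cfsg.Agent.S0434
import Cfsg.Agent.S0435
import Cfsg.Agent.OVAL.Grp1

set_option autoImplicit false
set_option linter.unusedSectionVars false

namespace Cfsg.Agent.OVAL

open Subgroup Matrix
open scoped MatrixGroups

/-- Two distinct commuting involutions. -/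
def K4 {G : Type*} [Group G] (a b : G) : Prop :=
  a * a = 1 ∧ b * b = 1 ∧ a ≠ 1 ∧ b ≠ 1 ∧ a ≠ b ∧ a * b = b * a

theorem K4.map {G K : Type*} [Group G] [Group K] (e : G ≃* K) {a b : G} (h : K4 a b) :
    K4 (e a) (e b) :=
  ⟨by rw [← map_mul, h.1, map_one], by rw [← map_mul, h.2.1, map_one],
    by simpa using h.2.2.1, by simpa using h.2.2.2.1, by simpa using h.2.2.2.2.1,
    by rw [← map_mul, h.2.2.2.2.2, map_mul]⟩

/-- A forbidden configuration. -/
def Bad (G : Type*) [Group G] : Prop :=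
  (∃ (a b g t : G) (r : ℕ), K4 a b ∧ r.Prime ∧ r ≠ 2 ∧ g ^ r = 1 ∧ g ≠ 1 ∧ g * a = a * g ∧
    g * b = b * g ∧ t * t = 1 ∧ t * g * t = g⁻¹) ∨
  (∃ a b r r' : G, K4 a r ∧ K4 b r ∧ K4 a r' ∧ K4 b r' ∧ a ≠ b ∧ r ≠ r') ∨
  (∃ a b x : G, K4 a b ∧ x * x = a ∧ x * b = b * x)

theorem Bad.map {G K : Type*} [Group G] [Group K] (e : G ≃* K) (h : Bad G) : Bad K := by
  rcases h with ⟨a, b, g, t, r, h1, h2, h3, h4, h5, h6, h7, h8, h9⟩ |
    ⟨a, b, r, r', h1, h2, h3, h4, h5, h6⟩ | ⟨a, b, x, h1, h2, h3⟩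
  · exact Or.inl ⟨e a, e b, e g, e t, r, h1.map e, h2, h3, by rw [← map_pow, h4, map_one],
      by simpa using h5, by rw [← map_mul, h6, map_mul], by rw [← map_mul, h7, map_mul],
      by rw [← map_mul, h8, map_one], by rw [← map_mul, ← map_mul, h9, map_inv]⟩
  · exact Or.inr (Or.inl ⟨e a, e b, e r, e r', h1.map e, h2.map e, h3.map e, h4.map e,
      by simpa using h5, by simpa using h6⟩)
  · exact Or.inr (Or.inr ⟨e a, e b, e x, h1.map e, by rw [← map_mul, h2],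
      by rw [← map_mul, h3, map_mul]⟩)

theorem bad_a7 : Bad (alternatingGroup (Fin 7)) := by
  let m : ∀ x : Equiv.Perm (Fin 7), Equiv.Perm.sign x = 1 → alternatingGroup (Fin 7) :=
    fun x h => ⟨x, Equiv.Perm.mem_alternatingGroup.2 h⟩
  refine Or.inl ⟨m (Equiv.swap 0 1 * Equiv.swap 2 3) (by simp [Equiv.Perm.sign_swap]),
    m (Equiv.swap 0 2 * Equiv.swap 1 3) (by simp [Equiv.Perm.sign_swap]),
    m (Equiv.swap 4 5 * Equiv.swap 5 6) (by simp [Equiv.Perm.sign_swap]),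
    m (Equiv.swap 0 1 * Equiv.swap 4 5) (by simp [Equiv.Perm.sign_swap]), 3, ?_,
    Nat.prime_three, by decide, ?_⟩
  · simp only [K4, m, Ne, Subtype.ext_iff]
    decide +kernel
  · simp only [m, Ne, Subtype.ext_iff]
    decide +kernel

theorem mk_ne {K : Type*} [Group K] {x y : K} (z : K) (h : y * z * x ≠ x * z * y)
    (c : x * y = y * x) : (x : K ⧸ center K) ≠ y := fun e => h (by
  have := mem_center_iff.1 (QuotientGroup.eq.1 e) z
  calc y * z * x = x * (x⁻¹ * y * z) * x := by group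
    _ = x * z * (x⁻¹ * (y * x)) := by rw [← this]; group
    _ = _ := by rw [← c]; group)

theorem K4.mk' {K : Type*} [Group K] {a b : K} (x y z : K) (h1 : a * a = 1) (h2 : b * b = 1)
    (c : a * b = b * a) (h3 : x * a ≠ a * x) (h4 : y * b ≠ b * y) (h5 : b * z * a ≠ a * z * b) :
    K4 (a : K ⧸ center K) b :=
  ⟨by rw [← QuotientGroup.mk_mul, h1, QuotientGroup.mk_one],
    by rw [← QuotientGroup.mk_mul, h2, QuotientGroup.mk_one],
    mk_ne (y := 1) x (by simpa using h3) (by simp), mk_ne (y := 1) y (by simpa using h4) (by simp),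
    mk_ne z h5 c, by rw [← QuotientGroup.mk_mul, c, QuotientGroup.mk_mul]⟩

theorem two_ne_of_odd {F : Type*} [Field F] [Fintype F] (h : Odd (Fintype.card F)) :
    (2 : F) ≠ 0 := fun e => by
  have := (FiniteField.even_card_iff_char_two (F := F)).1 (CharP.ringChar_of_prime_eq_zero
    Nat.prime_two (by exact_mod_cast e))
  obtain ⟨k, hk⟩ := h
  omega

theorem bad_l3 {F : Type*} [Field F] [Fintype F] (hF : Odd (Fintype.card F)) :
    Bad PSL(3, F) := by
  have h2 := two_ne_of_odd hF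
  let φ := slToMat 3 F
  have inj : ∀ {x y : SL(3, F)}, φ x = φ y → x = y := fun e => Subtype.ext e
  have ex : ∀ M : Matrix (Fin 3) (Fin 3) F, M.det = 1 → ∃ x, φ x = M := fun M h => ⟨⟨M, h⟩, rfl⟩
  choose A hA using fun s : F => ex !![1, 0, 0; s, -1, 0; 0, 0, -1] (by simp [det_fin_three])
  choose B hB using fun s : F => ex !![-1, 0, 0; 0, -1, s; 0, 0, 1] (by simp [det_fin_three])
  obtain ⟨z, hz⟩ := ex !![1, 0, 1; 0, 1, 0; 0, 0, 1] (by simp [det_fin_three])
  obtain ⟨w, hw⟩ := ex !![1, 1, 0; 0, 1, 0; 0, 0, 1] (by simp [det_fin_three])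
  have ne : ∀ {x y : SL(3, F)} (i j : Fin 3), φ x i j ≠ φ y i j → x ≠ y :=
    fun i j h e => h (e ▸ rfl)
  have A2 : ∀ s, A s * A s = 1 := fun s => inj (by simp [hA, Matrix.one_fin_three])
  have B2 : ∀ s, B s * B s = 1 := fun s => inj (by simp [hB, Matrix.one_fin_three])
  have k : ∀ s t : F, K4 (A s : PSL(3, F)) (B t) := fun s t =>
    K4.mk' z z w (A2 s) (B2 t) (inj (by simp [hA, hB]))
      (ne 0 2 (by simp [hA, hz]; grind)) (ne 0 2 (by simp [hB, hz]; grind))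
      (ne 0 1 (by simp [hA, hB, hw]; grind))
  refine Or.inr (Or.inl ⟨A 0, A 1, B 0, B 1, k _ _, k _ _, k _ _, k _ _, fun e => ?_, fun e => ?_⟩)
  · obtain ⟨r, -, hr⟩ := Matrix.SpecialLinearGroup.mem_center_iff.1
      ((QuotientGroup.eq (s := center SL(3, F)) (a := A 0) (b := A 1)).1 e)
    have : _ = φ ((A 0)⁻¹ * A 1) 1 0 := congrFun (congrFun hr 1) 0
    simp [inv_eq_of_mul_eq_one_left (A2 0), hA] at this
  · obtain ⟨r, -, hr⟩ := Matrix.SpecialLinearGroup.mem_center_iff.1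
      ((QuotientGroup.eq (s := center SL(3, F)) (a := B 0) (b := B 1)).1 e)
    have : _ = φ ((B 0)⁻¹ * B 1) 1 2 := congrFun (congrFun hr 1) 2
    simp [inv_eq_of_mul_eq_one_left (B2 0), hB] at this

theorem bad_u3 {F : Type*} [Field F] [Fintype F] {q : ℕ} (hF : Fintype.card F = q ^ 2)
    (hq : Odd q) : Bad (PSU 3 F q) := by
  classical
  have h2 := two_ne_of_odd (F := F) (hF ▸ hq.pow)
  have q1 : 1 < q := by
    have := Fintype.one_lt_card (α := F)
    by_contra k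
    have : q ^ 2 ≤ 1 ^ 2 := Nat.pow_le_pow_left (not_lt.1 k) 2
    omega
  have q0 : q ≠ 0 := by omega
  let φ := (slToMat 3 F).comp (SU 3 F q).subtype
  have inj : ∀ {x y : SU 3 F q}, φ x = φ y → x = y := fun e => Subtype.ext (Subtype.ext e)
  have ex : ∀ M : Matrix (Fin 3) (Fin 3) F, M.det = 1 →
      (∀ u v, hermForm 3 F q (M *ᵥ u) (M *ᵥ v) = hermForm 3 F q u v) → ∃ x, φ x = M :=
    fun M h h' => ⟨⟨⟨M, h⟩, h'⟩, rfl⟩
  have dg : ∀ a b c : F, a * b * c = 1 → a * a ^ q = 1 → b * b ^ q = 1 → c * c ^ q = 1 →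
      ∃ x, φ x = !![a, 0, 0; 0, b, 0; 0, 0, c] := fun a b c h ha hb hc =>
    ex _ (by simp [det_fin_three, h]) fun u v => by
      simp [hermForm, Fin.sum_univ_three, mulVec, dotProduct, mul_pow]
      linear_combination u 0 * v 0 ^ q * ha + u 1 * v 1 ^ q * hb + u 2 * v 2 ^ q * hc
  have n1 : (-1 : F) * (-1) ^ q = 1 := by rw [hq.neg_one_pow]; ring
  obtain ⟨a, ha⟩ := dg (-1) (-1) 1 (by ring) n1 n1 (by simp)
  obtain ⟨b, hb⟩ := dg 1 (-1) (-1) (by ring) (by simp) n1 n1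
  obtain ⟨z, hz⟩ := ex !![0, 1, 0; 0, 0, 1; 1, 0, 0] (by simp [det_fin_three]) fun u v => by
    simp [hermForm, Fin.sum_univ_three, mulVec, dotProduct]; ring
  obtain ⟨t, ht⟩ := ex !![0, 1, 0; 1, 0, 0; 0, 0, -1] (by simp [det_fin_three]) fun u v => by
    simp [hermForm, Fin.sum_univ_three, mulVec, dotProduct, hq.neg_pow]; ring
  have ne : ∀ {x y : SU 3 F q} (i j : Fin 3), φ x i j ≠ φ y i j → x ≠ y :=
    fun i j h e => h (e ▸ rfl)
  have k : K4 (a : PSU 3 F q) b :=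
    K4.mk' z z z (inj (by simp [ha, Matrix.one_fin_three])) (inj (by simp [hb, Matrix.one_fin_three]))
      (inj (by simp [ha, hb])) (ne 1 2 (by simp [ha, hz]; grind)) (ne 0 1 (by simp [hb, hz]; grind))
      (ne 0 1 (by simp [ha, hb, hz]; grind))
  have el : ∀ r : ℕ, r ∣ q + 1 → ∃ c : F, orderOf c = r ∧ c * c ^ q = 1 := fun r hr => by
    obtain ⟨g, hg⟩ := IsCyclic.exists_ofOrder_eq_natCard (α := Fˣ)
    have e : orderOf g = (q + 1) * (q - 1) := by
      rw [hg, Nat.card_units, Nat.card_eq_fintype_card, hF, ← Nat.sq_sub_sq, one_pow]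
    have d : r ∣ orderOf g := e ▸ hr.mul_right _
    have o := orderOf_pow_orderOf_div (orderOf_pos g).ne' d
    refine ⟨(g ^ (orderOf g / r) : Fˣ), by rw [orderOf_units, o], ?_⟩
    rw [← pow_succ', ← Units.val_pow_eq_pow_val, orderOf_dvd_iff_pow_eq_one.1 (o.symm ▸ hr),
      Units.val_one]
  have gg : ∀ c : F, c * c ^ q = 1 → ∃ x, φ x = !![c, 0, 0; 0, c⁻¹, 0; 0, 0, 1] := fun c hc => by
    have c0 : c ≠ 0 := left_ne_zero_of_mul_eq_one hc
    exact dg c c⁻¹ 1 (by field_simp) hc (by rw [inv_pow, ← mul_inv, hc, inv_one]) (by simp)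
  have mm : ∀ {x y : SU 3 F q}, x * y = y * x → (x : PSU 3 F q) * y = y * x := fun e => by
    rw [← QuotientGroup.mk_mul, e, QuotientGroup.mk_mul]
  rcases Nat.eq_two_pow_or_exists_odd_prime_and_dvd (q + 1) with ⟨e, he⟩ | ⟨r, hr, d, ro⟩
  · obtain ⟨c, c4, hc⟩ := el 4 (by
      rcases e with _ | _ | e
      · omega
      · omega
      · exact ⟨2 ^ e, by rw [he]; ring⟩)
    have c0 : c ≠ 0 := left_ne_zero_of_mul_eq_one hc
    have c2 : c * c = -1 := by
      have e1 : c ^ 4 = 1 := c4 ▸ pow_orderOf_eq_one c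
      have e2 : c ^ 2 ≠ 1 := pow_ne_one_of_lt_orderOf two_ne_zero (by omega)
      grind
    obtain ⟨x, hx⟩ := gg c hc
    refine Or.inr (Or.inr ⟨a, b, x, k, ?_, mm (inj (by simp [hx, hb]))⟩)
    rw [← QuotientGroup.mk_mul]
    exact congrArg _ (inj (by simp [hx, ha, c2, ← mul_inv, inv_neg]))
  · obtain ⟨c, c4, hc⟩ := el r d
    have c0 : c ≠ 0 := left_ne_zero_of_mul_eq_one hc
    have r2 : r ≠ 2 := by rintro rfl; exact absurd ro (by decide)
    have e2 : c ^ 2 ≠ 1 := pow_ne_one_of_lt_orderOf two_ne_zero (by have := hr.two_le; omega)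
    obtain ⟨x, hx⟩ := gg c hc
    refine Or.inl ⟨a, b, x, t, r, k, hr, r2, ?_, mk_ne (y := 1) t (ne 0 1 ?_) (by simp),
      mm (inj (by simp [hx, ha])), mm (inj (by simp [hx, hb])), ?_, ?_⟩
    · have : ∀ i : ℕ, φ (x ^ i) = !![c ^ i, 0, 0; 0, c⁻¹ ^ i, 0; 0, 0, 1] := fun i => by
        induction i with
        | zero => simp [Matrix.one_fin_three]
        | succ i ih => rw [pow_succ, map_mul, ih, hx]; simp [pow_succ, mul_comm]
      rw [← QuotientGroup.mk_pow, inj (x := x ^ r) (y := 1) (by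
        simp only [this, inv_pow, ← c4, pow_orderOf_eq_one]; simp [Matrix.one_fin_three]),
        QuotientGroup.mk_one]
    · simp [hx, ht]; grind
    · rw [← QuotientGroup.mk_mul, inj (x := t * t) (y := 1) (by simp [ht, Matrix.one_fin_three]),
        QuotientGroup.mk_one]
    · rw [eq_inv_iff_mul_eq_one, ← QuotientGroup.mk_mul, ← QuotientGroup.mk_mul,
        ← QuotientGroup.mk_mul, inj (x := t * x * t * x) (y := 1) (by
          simp [ht, hx, c0, Matrix.one_fin_three]), QuotientGroup.mk_one]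

open H50.U3J H42 in
theorem bad_u34 {F : Type*} [Field F] [Fintype F] (hF : Fintype.card F = 16) :
    Bad (PSU 3 F 4) := by
  have : Fact (Fintype.card F = 4 ^ 2) := ⟨hF⟩
  have := H42.charP_of_card hF
  obtain ⟨π, hs, hk⟩ := H50.U3J.exists_proj (F := F) (q := 4)
  have inj : ∀ a : UM F 4, π (uu a) = 1 → a = 1 := fun a e => by
    obtain ⟨c, hc⟩ := (hk _).1 e
    have h1 := congrFun (congrFun hc 0) 2
    have h2 := congrFun (congrFun hc 1) 2
    simp [mm_uu] at h1 h2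
    exact UM.ext h2 h1
  obtain ⟨w, hw⟩ := exists_prime_orderOf_dvd_card' (G := Fˣ) 3 (by
    rw [Nat.card_units, Nat.card_eq_fintype_card, hF]; decide)
  have w3 : (w : F) ^ 3 = 1 := by rw [← Units.val_pow_eq_pow_val, ← hw, pow_orderOf_eq_one]; rfl
  have w1 : (w : F) ≠ 1 := fun e => by
    rw [Units.val_eq_one.1 e, orderOf_one] at hw
    omega
  have hσ : H10.cj F 4 (w : F) = w := by rw [H10.cj_apply, pow_succ, w3, one_mul]
  obtain ⟨c, hc⟩ := UM.exists_x (F := F) (q := 4) 1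
  let f := π.comp uu
  have fi : Function.Injective f := (injective_iff_map_eq_one f).2 inj
  have y1 : (c * c).y = 1 := by rw [UM.sq_y, hc, map_one, mul_one]
  refine Or.inr (Or.inr ⟨f (c * c), f (zz (w : F) hσ), f c, ⟨?_, ?_, fun e => ?_, fun e => ?_,
    fun e => ?_, ?_⟩, (map_mul f c c).symm, ?_⟩)
  · rw [← map_mul, UM.sq_eq_one_iff.2 (UM.sq_x c), map_one]
  · rw [← map_mul, UM.sq_eq_one_iff.2 rfl, map_one]
  · rw [inj _ e] at y1
    exact zero_ne_one y1
  · exact w.ne_zero (congrArg UM.y (inj _ e))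
  · rw [fi e] at y1
    exact w1 y1
  · rw [← map_mul, x_zero_comm rfl, map_mul f (zz (w : F) hσ)]
  · rw [← map_mul, x_zero_comm rfl, map_mul]

theorem ex_k4 {G : Type*} [Group G] [Finite G] [IsSimpleGroup G] (hG : ¬ IsMulCommutative G)
    (S : Sylow 2 G) (h : Nat.card (S : Subgroup G) ≠ 1) :
    ∃ a ∈ (S : Subgroup G), ∃ b ∈ (S : Subgroup G), K4 a b := by
  have : Nontrivial (S : Subgroup G) := Finite.one_lt_card_iff_nontrivial.1 (by
    have := Nat.card_pos (α := (S : Subgroup G)); omega)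
  have := S.isPGroup'.center_nontrivial
  obtain ⟨z, z1⟩ := exists_ne (1 : center (S : Subgroup G))
  obtain ⟨j, -, w2, w1⟩ := ex_half S.isPGroup' z.1.2 fun e => z1 (Subtype.ext (Subtype.ext e))
  have wS := (S : Subgroup G).pow_mem z.1.2 (2 ^ j)
  obtain ⟨g, g1, g2⟩ := not_isolated hG S wS w2 w1
  exact ⟨_, g1, _, wS, by rw [conj_mul, w2]; group, w2, by simpa using w1, w1, g2,
    (Commute.pow_right (congrArg Subtype.val (mem_center_iff.1 z.2 ⟨_, g1⟩)) _).eq⟩

theorem bad_m11 {G : Type*} [Group G] [Finite G] (hG : ¬ IsMulCommutative G) (h : IsM11 G) :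
    Bad G := by
  have := h.1
  obtain ⟨P⟩ : Nonempty (Sylow 3 G) := inferInstance
  have P9 : Nat.card (P : Subgroup G) = 3 ^ 2 := by
    rw [P.card_eq_multiplicity, h.2]; decide +kernel
  have hN := S0434.result h P
  obtain ⟨Q, hQ⟩ := Sylow.exists_subgroup_card_pow_prime (G := normalizer ((P : Subgroup G) : Set G))
    2 (n := 4) (by rw [hN]; decide)
  let S : Sylow 2 G := Sylow.ofCard (Q.map (normalizer ((P : Subgroup G) : Set G)).subtype) (by
    rw [card_map_of_injective (subtype_injective _), hQ, h.2]; decide +kernel)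
  obtain ⟨a, ha, b, hb, k⟩ := ex_k4 hG S (by rw [S.card_eq_multiplicity, h.2]; decide +kernel)
  have ha' := map_subtype_le Q ha
  have hb' := map_subtype_le Q hb
  have cP : ∀ x ∈ (P : Subgroup G), ∀ y ∈ (P : Subgroup G), x * y = y * x := fun x hx y hy =>
    congrArg Subtype.val ((IsPGroup.isMulCommutative_of_card_eq_prime_sq P9).is_comm.comm
      (⟨x, hx⟩ : (P : Subgroup G)) ⟨y, hy⟩)
  have m := @mem_centralizer_singleton_iff G _
  have o : ∀ {x : G}, x * x = 1 → x ≠ 1 → orderOf x = 2 := fun h1 h2 =>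
    orderOf_eq_prime (by rw [sq, h1]) h2
  have c3 : ∀ {x : G}, x * x = 1 → x ≠ 1 →
      Nat.card ((P : Subgroup G) ⊓ centralizer {x} : Subgroup G) ∣ 3 := fun {x} h1 h2 => by
    have := Nat.dvd_gcd (card_dvd_of_le (inf_le_left : _ ⊓ centralizer {x} ≤ (P : Subgroup G)))
      (card_dvd_of_le (inf_le_right : (P : Subgroup G) ⊓ _ ≤ centralizer {x}))
    rwa [P9, S0435.result h x (o h1 h2)] at this
  have main : ∀ {a b : G}, K4 a b → ¬ (P : Subgroup G) ⊓ centralizer {a} ≤ (P : Subgroup G) ⊓ centralizer {b} →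
      ¬ (P : Subgroup G) ⊓ centralizer {b} ≤ (P : Subgroup G) ⊓ centralizer {a} → Bad G := fun {a b} k h1 h2 => by
    obtain ⟨g, hg, g1⟩ := SetLike.not_le_iff_exists.1 h1
    obtain ⟨u, hu, u1⟩ := SetLike.not_le_iff_exists.1 h2
    have ga := m.1 hg.2
    have ub := m.1 hu.2
    have gu := cP g hg.1 u hu.1
    have cj : ∀ {x y : G} (g : G), K4 x y → K4 (g * x * g⁻¹) (g * y * g⁻¹) := fun g k =>
      k.map (MulAut.conj g)
    have e1 : g * a * g⁻¹ = a := by rw [ga, mul_inv_cancel_right]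
    have e2 : u * b * u⁻¹ = b := by rw [ub, mul_inv_cancel_right]
    have k1 := cj g k
    have k2 := cj u k
    have k3 := cj u k1
    rw [e1] at k1 k3
    rw [e2] at k2
    rw [show u * (g * b * g⁻¹) * u⁻¹ = g * b * g⁻¹ by
      rw [← conj_mul (b := u), ← conj_mul (b := u), e2, ← conj_inv, ← gu, mul_inv_cancel_right]]
      at k3
    exact Or.inr (Or.inl ⟨a, _, b, _, k, k2, k1, k3,
      fun e => u1 ⟨hu.1, m.2 (mul_inv_eq_iff_eq_mul.1 e.symm)⟩,
      fun e => g1 ⟨hg.1, m.2 (mul_inv_eq_iff_eq_mul.1 e.symm)⟩⟩)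
  by_contra nb
  obtain ⟨a2, b2, a1, b1, ab, c⟩ := k
  have ab2 : a * b * (a * b) = 1 := by
    rw [mul_assoc, ← mul_assoc b, ← c, mul_assoc, b2, mul_one, a2]
  have ab1 : a * b ≠ 1 := fun e =>
    ab (by rw [eq_inv_of_mul_eq_one_left e, inv_eq_of_mul_eq_one_left b2])
  have t1 := mt (fun k : _ ∧ _ => main ⟨a2, b2, a1, b1, ab, c⟩ k.1 k.2) nb
  have t2 := mt (fun k : _ ∧ _ => main (a := a) (b := a * b) ⟨a2, ab2, a1, ab1,
    fun e => b1 (left_eq_mul.1 e), by rw [mul_assoc, c]⟩ k.1 k.2) nb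
  have t3 := mt (fun k : _ ∧ _ => main (a := b) (b := a * b) ⟨b2, ab2, b1, ab1,
    fun e => a1 (right_eq_mul.1 e), by rw [← mul_assoc, c]⟩ k.1 k.2) nb
  have fin : ∀ {x : G}, x * x = 1 → x ≠ 1 →
      (P : Subgroup G) ⊓ centralizer {a} ≤ (P : Subgroup G) ⊓ centralizer {x} →
      (P : Subgroup G) ⊓ centralizer {b} ≤ (P : Subgroup G) ⊓ centralizer {x} →
      (P : Subgroup G) ⊓ centralizer {a * b} ≤ (P : Subgroup G) ⊓ centralizer {x} → False :=
    fun h1 h2 k1 k2 k3 => by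
      have := (card_dvd_of_le (H46.le_of_four (o a2 a1) (o b2 b1) ab c (by rw [P9]; decide) ha' hb'
        k1 k2 k3)).trans (c3 h1 h2)
      rw [P9] at this
      exact absurd this (by decide)
  rw [not_and_or, not_not, not_not] at t1 t2 t3
  rcases t1 with t1 | t1 <;> rcases t2 with t2 | t2 <;> rcases t3 with t3 | t3
  exacts [fin ab2 ab1 t2 t3 le_rfl, fin b2 b1 t1 le_rfl t3, fin ab2 ab1 (t1.trans t3) t3 le_rfl,
    fin b2 b1 t1 le_rfl t3, fin ab2 ab1 t2 t3 le_rfl, fin ab2 ab1 t2 (t1.trans t2) le_rfl,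
    fin a2 a1 le_rfl t1 t2, fin a2 a1 le_rfl t1 t2]

end Cfsg.Agent.OVAL
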